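import Mathlib.GroupTheory.Sylow
import Mathlib.GroupTheory.Abelianization.Defs
import Mathlib.GroupTheory.QuotientGroup.Basic

/-!
# Rigidity of the normalizer of a Sylow subgroup in a group of rank one

A group is rigid at `p` when an automorphism of `p`-power order centralizing the normalizer of a
Sylow `p`-subgroup is trivial.  The criterion uses only an element `h` of the normalizer with
controlled centralizer and an element carrying it back into the normalizer.
-/

set_option autoImplicit false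

namespace CfsgLib.LocalEven.RankOneRigid

universe u v

open scoped commutatorElement

/-- An automorphism of `p`-power order centralizing a Sylow normalizer is trivial. -/
def Rigid (p : ℕ) (X : Type u) [Group X] : Prop :=
  p ∣ Nat.card X ∧ ∀ (w : MulAut X) (j : ℕ) (U : Sylow p X), w ^ p ^ j = 1 →
    (∀ b ∈ Subgroup.normalizer ((U : Subgroup X) : Set X), w b = b) → w = 1

variable {p : ℕ} {X : Type u} [Group X]

/-- The criterion. -/
theorem eq_one_of_torus (w : MulAut X) {j : ℕ} (hw : w ^ p ^ j = 1) (B : Subgroup X)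
    (hfix : ∀ b ∈ B, w b = b) (h n : X) (hh : h ∈ B) (hn : n * h * n⁻¹ ∈ B) (hnB : n ∉ B)
    (hgen : B ⊔ Subgroup.zpowers n = ⊤)
    (hC : ∀ c, Commute c h → (c ∈ B ∧ (c ^ p ^ j = 1 → c = 1)) ∨ n * c ∈ B) : w = 1 := by
  set c := n⁻¹ * w n with hc
  have hwn : w n = n * c := by rw [hc, mul_inv_cancel_left]
  have hcomm : Commute c h := by
    have h1 : w n * h * (w n)⁻¹ = n * h * n⁻¹ := by
      have := hfix _ hn
      rwa [map_mul, map_mul, map_inv, hfix h hh] at this
    rw [hwn] at h1
    have h2 : c * h * c⁻¹ = h := by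
      have h3 := congrArg (fun x => n⁻¹ * x * n) h1
      simpa [mul_assoc] using h3
    exact mul_inv_eq_iff_eq_mul.1 h2
  have hn1 : w n = n := by
    rcases hC c hcomm with ⟨hcB, hc1⟩ | hncB
    · have hpow : ∀ k : ℕ, (w ^ k) n = n * c ^ k := by
        intro k
        induction k with
        | zero => simp
        | succ k ih =>
          rw [pow_succ', MulAut.mul_apply, ih, map_mul, map_pow, hwn, hfix c hcB, mul_assoc, pow_succ']
      have := hpow (p ^ j)
      rw [hw, MulAut.one_apply, left_eq_mul] at this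
      rw [hwn, hc1 this, mul_one]
    · exfalso
      rw [← hwn] at hncB
      exact hnB (w.injective (hfix _ hncB) ▸ hncB)
  have hle : (⊤ : Subgroup X) ≤ w.toMonoidHom.eqLocus (MonoidHom.id X) := by
    rw [← hgen, sup_le_iff, Subgroup.zpowers_le]
    exact ⟨fun b hb => hfix b hb, hn1⟩
  exact MulEquiv.ext fun x => hle (Subgroup.mem_top x)

/-- Rigidity from one Sylow subgroup and a subgroup of its normalizer. -/
theorem rigid_of [Finite X] [Fact p.Prime] (hdvd : p ∣ Nat.card X) (U₀ : Sylow p X) (B : Subgroup X)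
    (hB : B ≤ Subgroup.normalizer ((U₀ : Subgroup X) : Set X)) (h n : X) (hh : h ∈ B)
    (hn : n * h * n⁻¹ ∈ B) (hnB : n ∉ B) (hgen : B ⊔ Subgroup.zpowers n = ⊤)
    (hC : ∀ c, Commute c h → (c ∈ B ∧ ((∃ j, c ^ p ^ j = 1) → c = 1)) ∨ n * c ∈ B) : Rigid p X := by
  refine ⟨hdvd, fun w j U hw hfix => ?_⟩
  obtain ⟨g, rfl⟩ := MulAction.exists_smul_eq X U₀ U
  set w' := (MulAut.conj g)⁻¹ * w * MulAut.conj g with hw'
  have hpow : w' ^ p ^ j = 1 := by
    rw [hw', show (MulAut.conj g)⁻¹ * w * MulAut.conj g = MulAut.conj (MulAut.conj g)⁻¹ w from by simp,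
      ← map_pow, hw, map_one]
  have h1 : w' = 1 := by
    refine eq_one_of_torus w' hpow B (fun b hb => ?_) h n hh hn hnB hgen fun c hc => ?_
    · have hb' : g * b * g⁻¹ ∈ Subgroup.normalizer (((g • U₀ : Sylow p X) : Subgroup X) : Set X) := by
        rw [Sylow.coe_subgroup_smul, Subgroup.pointwise_smul_def]
        exact Subgroup.le_normalizer_map _ ⟨b, hB hb, rfl⟩
      have := hfix _ hb'
      simp only [hw', MulAut.mul_apply, MulAut.inv_apply, MulAut.conj_apply, this, MulAut.conj_symm_apply]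
      group
    · rcases hC c hc with ⟨h2, h3⟩ | h4
      · exact Or.inl ⟨h2, fun h5 => h3 ⟨j, h5⟩⟩
      · exact Or.inr h4
  rw [hw', mul_eq_one_iff_eq_inv, inv_mul_eq_iff_eq_mul, mul_inv_cancel] at h1
  exact h1

/-- Rigidity is invariant under isomorphism. -/
theorem Rigid.of_equiv {Y : Type v} [Group Y] [Finite X] [Finite Y] [Fact p.Prime] (e : X ≃* Y)
    (hX : Rigid p X) : Rigid p Y := by
  refine ⟨Nat.card_congr e.toEquiv ▸ hX.1, fun w j U hw hfix => ?_⟩
  set w' : MulAut X := MulAut.congr e.symm w with hw'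
  have hpow : w' ^ p ^ j = 1 := by rw [hw', ← map_pow, hw, map_one]
  have h1 : w' = 1 := by
    refine hX.2 w' j (U.mapSurjective (f := e.symm.toMonoidHom) e.symm.surjective) hpow fun b hb => ?_
    have hb' : e b ∈ Subgroup.normalizer ((U : Subgroup Y) : Set Y) := by
      change b ∈ Subgroup.normalizer (((U : Subgroup Y).map e.symm.toMonoidHom : Subgroup X) : Set X) at hb
      rw [← Subgroup.map_equiv_normalizer_eq (U : Subgroup Y) e.symm] at hb
      obtain ⟨y, hy, rfl⟩ := hb
      simpa using hy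
    show e.symm (w (e b)) = b
    rw [hfix _ hb', e.symm_apply_apply]
  exact (MulAut.congr e.symm).injective (by rw [← hw', h1, map_one])

/-- Rigidity lifts to perfect central covers of index prime to `p`. -/
theorem Rigid.of_quotient_center [Finite X] [Fact p.Prime] (hperf : commutator X = ⊤)
    (hcop : ∀ z ∈ Subgroup.center X, z ^ p = 1 → z = 1) (hX : Rigid p (X ⧸ Subgroup.center X)) :
    Rigid p X := by
  have hcop' : ∀ k : ℕ, ∀ z ∈ Subgroup.center X, z ^ p ^ k = 1 → z = 1 := by
    intro k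
    induction k with
    | zero => intro z _ hz; rwa [pow_zero, pow_one] at hz
    | succ k ih =>
      intro z hz h
      rw [pow_succ', pow_mul] at h
      exact hcop z hz (ih _ (Subgroup.pow_mem _ hz p) h)
  refine ⟨hX.1.trans (Subgroup.card_quotient_dvd_card _), fun w j U hw hfix => ?_⟩
  set Z := Subgroup.center X
  have hmap : Z.map (w : X →* X) = Z :=
    Subgroup.characteristic_iff_map_eq.1 inferInstance w
  set w' : MulAut (X ⧸ Z) := QuotientGroup.congr Z Z w hmap with hw'
  have hmk : ∀ (k : ℕ) (x : X), (w' ^ k) (x : X ⧸ Z) = ((w ^ k) x : X) := by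
    intro k
    induction k with
    | zero => intro x; simp
    | succ k ih =>
      intro x
      rw [pow_succ', pow_succ', MulAut.mul_apply, MulAut.mul_apply, ih]
      rfl
  have hpow : w' ^ p ^ j = 1 := by
    refine MulEquiv.ext fun y => ?_
    obtain ⟨x, rfl⟩ := QuotientGroup.mk_surjective y
    rw [hmk, hw]
    rfl
  have h1 : w' = 1 := by
    refine hX.2 w' j (U.mapSurjective (f := QuotientGroup.mk' Z) (QuotientGroup.mk'_surjective Z)) hpow
      fun b hb => ?_
    obtain ⟨g, rfl⟩ := QuotientGroup.mk_surjective b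
    have hg : g ∈ Subgroup.normalizer ((U : Subgroup X) : Set X) := by
      rw [Sylow.coe_mapSurjective] at hb
      refine Subgroup.mem_normalizer_iff_map_conj_eq.2 (Subgroup.eq_of_le_of_card_ge ?_
        (Subgroup.card_map_of_injective (MulAut.conj g).injective).ge)
      rintro _ ⟨u, hu, rfl⟩
      obtain ⟨u', hu', he⟩ := (Subgroup.mem_normalizer_iff.1 hb (u : X ⧸ Z)).1 ⟨u, hu, rfl⟩
      have hz : u'⁻¹ * (g * u * g⁻¹) ∈ Z := by
        rw [← QuotientGroup.eq]
        exact he
      obtain ⟨a, ha⟩ := U.2 ⟨u, hu⟩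
      obtain ⟨b', hb'⟩ := U.2 ⟨u', hu'⟩
      have ha' : u ^ p ^ a = 1 := congrArg Subtype.val ha
      have hb'' : u' ^ p ^ b' = 1 := congrArg Subtype.val hb'
      have hcm : Commute u'⁻¹ (g * u * g⁻¹) := by
        have h2 : Commute u'⁻¹ (u'⁻¹ * (g * u * g⁻¹)) := Subgroup.mem_center_iff.1 hz u'⁻¹
        have h3 := ((Commute.refl u'⁻¹).inv_right).mul_right h2
        rwa [inv_inv, mul_inv_cancel_left] at h3
      have hone : u'⁻¹ * (g * u * g⁻¹) = 1 := by
        refine hcop' (a + b') _ hz ?_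
        rw [hcm.mul_pow, inv_pow, conj_pow, pow_add, mul_comm (p ^ a), pow_mul, hb'', one_pow,
          inv_one, one_mul, mul_comm (p ^ b'), pow_mul, ha', one_pow, mul_one, mul_inv_cancel]
      show g * u * g⁻¹ ∈ U
      rw [← inv_mul_eq_one.1 hone]
      exact hu'
    show ((w g : X) : X ⧸ Z) = g
    rw [hfix g hg]
  have hz : ∀ x : X, x⁻¹ * w x ∈ Z := by
    intro x
    have := congrArg (fun e : MulAut (X ⧸ Z) => e (x : X ⧸ Z)) h1
    rw [← QuotientGroup.eq]
    exact this.symm
  have hle : (⊤ : Subgroup X) ≤ w.toMonoidHom.eqLocus (MonoidHom.id X) := by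
    rw [← hperf, commutator_def, Subgroup.commutator_le]
    intro a _ b _
    show w ⁅a, b⁆ = ⁅a, b⁆
    have ha : w a = a * (a⁻¹ * w a) := (mul_inv_cancel_left a _).symm
    have hb : w b = b * (b⁻¹ * w b) := (mul_inv_cancel_left b _).symm
    have c1 := fun y => Subgroup.mem_center_iff.1 (hz a) y
    have c2 := fun y => Subgroup.mem_center_iff.1 (hz b) y
    rw [map_commutatorElement, ha, hb]
    generalize a⁻¹ * w a = x at c1 ⊢
    generalize b⁻¹ * w b = y at c2 ⊢
    simp only [commutatorElement_def, mul_inv_rev]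
    calc a * x * (b * y) * (x⁻¹ * a⁻¹) * (y⁻¹ * b⁻¹)
        = a * (x * b) * y * x⁻¹ * a⁻¹ * y⁻¹ * b⁻¹ := by group
      _ = a * b * (x * y) * x⁻¹ * a⁻¹ * y⁻¹ * b⁻¹ := by rw [← c1 b]; group
      _ = a * b * (y * x) * x⁻¹ * a⁻¹ * y⁻¹ * b⁻¹ := by rw [c2 x]
      _ = a * b * (y * a⁻¹) * y⁻¹ * b⁻¹ := by group
      _ = a * b * (a⁻¹ * y) * y⁻¹ * b⁻¹ := by rw [← c2 a⁻¹]
      _ = a * b * a⁻¹ * b⁻¹ := by group
  exact MulEquiv.ext fun x => hle (Subgroup.mem_top x)

end CfsgLib.LocalEven.RankOneRigid
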