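import Cfsg.Prelude.Def_LocalEven
import Cfsg.Prelude.Def_Transfer
import Cfsg.Agent.Lib.LocalEven.RankOneRigid.Core
import Cfsg.Agent.Lib.LocalEven.PointStabilizer
import Cfsg.Agent.Lib.Fusion.Basic
import Cfsg.Agent.Lib.Components.SFT.Criterion

/-!
# Central `p`-elements of the subgroup generated by the other parabolics

In a `p`-minimal parabolic with rigid residual, a `p`-element commuting with every proper
overgroup of the Sylow subgroup lies in the `p`-core.
-/

set_option autoImplicit false

namespace CfsgLib.LocalEven.RankOneRigid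

open Cfsg

universe u

variable {G : Type u} [Group G] [Finite G] {p : ℕ} [Fact p.Prime]

/-- Proper overgroups of a Sylow subgroup inside `P` are generated by its normalizer and
`p`-minimal subgroups different from `P`. -/
theorem le_of_overgroup (S : Sylow p G) (P L : Subgroup G)
    (hN : Subgroup.normalizer ((S : Subgroup G) : Set G) ≤ L)
    (hmin : ∀ P' : Subgroup G, (S : Subgroup G) ≤ P' → IsPMinimal p ↥P' → P' ≠ P → P' ≤ L) :
    ∀ Y : Subgroup G, (S : Subgroup G) ≤ Y → Y < P → Y ≤ L := by
  intro Y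
  induction h : Nat.card Y using Nat.strong_induction_on generalizing Y with
  | _ n ih =>
  intro hSY hYP
  set SY := (S : Subgroup G).subgroupOf Y with hSYdef
  by_cases hn : SY.Normal
  · refine le_trans ?_ hN
    exact (Subgroup.normal_subgroupOf_iff_le_normalizer hSY).1 hn
  have hne : SY ≠ ⊤ := fun e => hn (e ▸ inferInstance)
  obtain ⟨M, hM, hSM⟩ := (eq_top_or_exists_le_coatom SY).resolve_left hne
  by_cases huniq : ∀ M' : Subgroup ↥Y, IsCoatom M' → SY ≤ M' → M' = M
  · refine hmin Y hSY (fun T => ?_) hYP.ne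
    obtain ⟨g, hg⟩ := MulAction.exists_smul_eq ↥Y (S.subtype hSY) T
    have hT : (T : Subgroup ↥Y) = SY.map (MulAut.conj g).toMonoidHom := by
      rw [← hg, Sylow.coe_subgroup_smul, Subgroup.pointwise_smul_def, Sylow.coe_subtype]
      rfl
    refine ⟨fun hTn => hn ?_, M.map (MulAut.conj g).toMonoidHom, ⟨?_, ?_⟩, fun M' hM' => ?_⟩
    · have hT' := Subgroup.normalizer_eq_top_iff.2 hTn
      rw [hT, ← Subgroup.map_equiv_normalizer_eq SY (MulAut.conj g),
        ← Subgroup.map_top_of_surjective (MulAut.conj g).toMonoidHom (MulAut.conj g).surjective] at hT'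
      exact Subgroup.normalizer_eq_top_iff.1 (Subgroup.map_injective (MulAut.conj g).injective hT')
    · exact ((MulAut.conj g).mapSubgroup.isCoatom_iff M).2 hM
    · exact hT ▸ Subgroup.map_mono hSM
    · have h1 : IsCoatom (M'.map (MulAut.conj g).symm.toMonoidHom) :=
        ((MulAut.conj g).symm.mapSubgroup.isCoatom_iff M').2 hM'.1
      have h2 : SY ≤ M'.map (MulAut.conj g).symm.toMonoidHom := by
        rw [← Subgroup.comap_equiv_eq_map_symm', ← Subgroup.map_le_iff_le_comap]
        exact hT ▸ hM'.2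
      rw [← huniq _ h1 h2]
      ext x
      rw [Subgroup.mem_map_equiv, Subgroup.mem_map_equiv]
      simp [mul_assoc]
  · push Not at huniq
    obtain ⟨M', hM', hSM', hMne⟩ := huniq
    have hsup : M ⊔ M' = ⊤ := hM.2 _ (lt_of_le_of_ne le_sup_left fun e =>
      hMne ((hM'.le_iff.1 (e ▸ le_sup_right)).resolve_left hM.1).symm)
    have hY : Y = M.map Y.subtype ⊔ M'.map Y.subtype := by
      rw [← Subgroup.map_sup, hsup, ← MonoidHom.range_eq_map, Subgroup.range_subtype]
    have hstep : ∀ K : Subgroup ↥Y, IsCoatom K → SY ≤ K → K.map Y.subtype ≤ L := by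
      intro K hK hSK
      refine ih _ ?_ (K.map Y.subtype) rfl ?_ ((Subgroup.map_subtype_le K).trans_lt hYP)
      · rw [Subgroup.card_map_of_injective Y.subtype_injective, ← h]
        exact lt_of_le_of_ne (Subgroup.card_le_card_group K) fun e =>
          hK.1 (Subgroup.eq_top_of_card_eq K e)
      · rw [← Subgroup.map_subgroupOf_eq_of_le hSY]
        exact Subgroup.map_mono hSK
    rw [hY]
    exact sup_le (hstep M hM hSM) (hstep M' hM' hSM')

/-- A `p`-element centralizing the preimage of a Sylow normalizer of a rigid residual is trivial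
modulo the core. -/
theorem eq_one_of_centralizes {H : Type u} [Group H] [Finite H] (hcore : pCore p H = ⊥)
    (hR : Rigid p ↥(pResidual p H)) [(pResidual p H).Normal] (T : Sylow p H) {z : H}
    (hzT : z ∈ T)
    (hz : ∀ y ∈ Subgroup.normalizer (((T : Subgroup H) ⊓ pResidual p H : Subgroup H) : Set H),
      Commute z y) : z = 1 := by
  set X := pResidual p H with hX
  obtain ⟨U, hU⟩ := PointStabilizer.sylow_inf T (K := X) (Subgroup.Normal.isSubnormal ‹_›)
  obtain ⟨j, hj⟩ := T.2 ⟨z, hzT⟩
  have hj' : z ^ p ^ j = 1 := congrArg Subtype.val hj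
  have hw : (MulAut.conjNormal z : MulAut X) ^ p ^ j = 1 := by rw [← map_pow, hj', map_one]
  have h1 := hR.2 (MulAut.conjNormal z) j U hw fun b hb => by
    have hb' : (b : H) ∈ Subgroup.normalizer (((T : Subgroup H) ⊓ X : Subgroup H) : Set H) := by
      rw [← hU]
      exact Subgroup.le_normalizer_map X.subtype ⟨b, hb, rfl⟩
    apply Subtype.ext
    rw [MulAut.conjNormal_apply]
    exact mul_inv_eq_iff_eq_mul.2 (hz _ hb')
  have hzC : z ∈ Subgroup.centralizer (X : Set H) := Subgroup.mem_centralizer_iff.2 fun x hx => by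
    have := congrArg (fun e : MulAut X => ((e ⟨x, hx⟩ : X) : H)) h1
    simp only [MulAut.conjNormal_apply, MulAut.one_apply] at this
    exact (mul_inv_eq_iff_eq_mul.1 this).symm
  set C := (T : Subgroup H) ⊓ Subgroup.centralizer (X : Set H)
  have hCn : C.Normal := by
    rw [← Subgroup.normalizer_eq_top_iff, eq_top_iff, ← CfsgLib.Fusion.Basic.pResidual_sup_sylow T]
    refine sup_le (fun x hx => ?_) (PointStabilizer.le_normalizer_inf Subgroup.le_normalizer ?_)
    · refine Subgroup.mem_normalizer_iff.2 fun c => ?_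
      constructor
      · intro hc
        have hxc : x * c = c * x := Subgroup.mem_centralizer_iff.1 hc.2 x hx
        show x * c * x⁻¹ ∈ C
        rw [hxc, mul_inv_cancel_right]
        exact hc
      · intro hc
        have hcomm := Subgroup.mem_centralizer_iff.1 hc.2 x hx
        have : x * c * x⁻¹ = c := mul_left_cancel (a := x) (by rw [hcomm, inv_mul_cancel_right])
        exact this ▸ hc
    · rw [Subgroup.normalizer_eq_top]; exact le_top
  have : z ∈ pCore p H := Solvable.Cores.le_pCore (hn := hCn) (T.2.to_le inf_le_left) ⟨hzT, hzC⟩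
  rwa [hcore, Subgroup.mem_bot] at this

/-- The conclusion for a `p`-minimal parabolic with rigid residual. -/
theorem mem_pCore (S : Sylow p G) (P : Subgroup G) (hSP : (S : Subgroup G) ≤ P)
    [(pCore p ↥P).Normal] (hR : Rigid p ↥(pResidual p (↥P ⧸ pCore p ↥P)))
    (L : Subgroup G) (hN : Subgroup.normalizer ((S : Subgroup G) : Set G) ≤ L)
    (hmin : ∀ P' : Subgroup G, (S : Subgroup G) ≤ P' → IsPMinimal p ↥P' → P' ≠ P → P' ≤ L)
    {z : G} (hz : z ∈ L ⊓ Subgroup.centralizer (L : Set G)) {k : ℕ} (hzk : orderOf z = p ^ k) :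
    z ∈ (pCore p ↥P).map P.subtype := by
  have hSL : (S : Subgroup G) ≤ L := Subgroup.le_normalizer.trans hN
  have hzS : z ∈ S := by
    have hpz : IsPGroup p ↥(Subgroup.zpowers z) := by
      refine IsPGroup.of_card (n := k) ?_
      rw [Nat.card_zpowers, hzk]
    have hle : (S : Subgroup G) ≤ Subgroup.normalizer ((Subgroup.zpowers z : Subgroup G) : Set G) := by
      refine le_trans ?_ (Subgroup.centralizer_le_normalizer _)
      intro s hs
      rw [Subgroup.mem_centralizer_iff]
      intro y hy
      obtain ⟨i, rfl⟩ := Subgroup.mem_zpowers_iff.1 hy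
      exact ((show Commute s z from Subgroup.mem_centralizer_iff.1 hz.2 s (hSL hs)).zpow_right i).symm.eq
    have hp := IsPGroup.to_sup_of_normal_right' S.2 hpz hle
    exact (S.is_maximal' hp le_sup_left).le (Subgroup.mem_sup_right (Subgroup.mem_zpowers z))
  set Q := pCore p ↥P
  set π := QuotientGroup.mk' Q with hπ
  have hπs : Function.Surjective π := QuotientGroup.mk'_surjective Q
  set T := (S.subtype hSP).mapSurjective hπs with hT
  have hTS : (T : Subgroup (↥P ⧸ Q)) = ((S : Subgroup G).subgroupOf P).map π := rfl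
  set X := pResidual p (↥P ⧸ Q) with hX
  haveI : X.Normal := inferInstanceAs (pResidual p (↥P ⧸ Q)).Normal
  set Y := (Subgroup.normalizer (((T : Subgroup (↥P ⧸ Q)) ⊓ X : Subgroup _) : Set (↥P ⧸ Q))).comap π
    with hY
  have hSY : (S : Subgroup G).subgroupOf P ≤ Y := by
    rw [hY, ← Subgroup.map_le_iff_le_comap, ← hTS]
    refine PointStabilizer.le_normalizer_inf Subgroup.le_normalizer ?_
    rw [Subgroup.normalizer_eq_top]; exact le_top
  have hcore : pCore p (↥P ⧸ Q) = ⊥ := CfsgLib.Components.SFT.pCore_quotient_eq_bot p ↥P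
  have hYne : Y ≠ ⊤ := by
    intro e
    have h1 : Subgroup.normalizer (((T : Subgroup (↥P ⧸ Q)) ⊓ X : Subgroup _) : Set (↥P ⧸ Q)) = ⊤ := by
      rw [← Subgroup.map_comap_eq_self_of_surjective hπs (Subgroup.normalizer _), ← hY, e,
        Subgroup.map_top_of_surjective π hπs]
    have h2 : (T : Subgroup (↥P ⧸ Q)) ⊓ X = ⊥ := le_bot_iff.1 (hcore ▸
      Solvable.Cores.le_pCore (hn := Subgroup.normalizer_eq_top_iff.1 h1) (T.2.to_le inf_le_left))
    obtain ⟨U, hU⟩ := PointStabilizer.sylow_inf T (K := X) (Subgroup.Normal.isSubnormal inferInstance)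
    have h3 : (U : Subgroup X) = ⊥ := (Subgroup.map_eq_bot_iff_of_injective _ X.subtype_injective).1
      (hU.trans h2)
    exact U.ne_bot_of_dvd_card hR.1 h3
  have hYL : Y.map P.subtype ≤ L := by
    refine le_of_overgroup S P L hN hmin _ ?_ ?_
    · rw [← Subgroup.map_subgroupOf_eq_of_le hSP]
      exact Subgroup.map_mono hSY
    · refine lt_of_le_of_ne (Subgroup.map_subtype_le _) fun e => hYne ?_
      refine Subgroup.map_injective P.subtype_injective ?_
      rw [e, ← MonoidHom.range_eq_map, Subgroup.range_subtype]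
  have hzP : z ∈ P := hSP hzS
  have h1 : π ⟨z, hzP⟩ = 1 := by
    refine eq_one_of_centralizes hcore hR T ⟨⟨z, hzP⟩, hzS, rfl⟩ fun y hy => ?_
    obtain ⟨y', rfl⟩ := hπs y
    have hc : Commute (⟨z, hzP⟩ : P) y' :=
      Subtype.ext (Subgroup.mem_centralizer_iff.1 hz.2 _ (hYL ⟨y', hy, rfl⟩)).symm
    exact hc.map π
  exact ⟨⟨z, hzP⟩, (QuotientGroup.eq_one_iff _).1 h1, rfl⟩

end CfsgLib.LocalEven.RankOneRigid
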