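import Cfsg.Agent.Lib.LocalEven.RankOneRigid.Core
import Cfsg.Agent.Lib.Classical.SL2Sylow
import Cfsg.Agent.Lib.Classical.SLBasic
import Mathlib.LinearAlgebra.Matrix.ProjectiveSpecialLinearGroup

/-!
# Rigidity of `SL₂` and `PSL₂` in odd characteristic
-/

set_option autoImplicit false
set_option linter.unusedSectionVars false
set_option backward.isDefEq.respectTransparency false

open Matrix CfsgLib.Classical
open scoped MatrixGroups

namespace CfsgLib.LocalEven.RankOneRigid

variable {F : Type*} [Field F]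

/-- The Weyl element. -/
def weyl : SL(2, F) := ⟨!![0, 1; -1, 0], by simp [Matrix.det_fin_two]⟩

/-- The upper triangular subgroup. -/
def upperSL : Subgroup SL(2, F) where
  carrier := {g | (g : Matrix (Fin 2) (Fin 2) F) 1 0 = 0}
  one_mem' := by simp
  mul_mem' {a b} ha hb := by
    simp only [Set.mem_ofPred_eq] at ha hb ⊢
    simp [Matrix.mul_apply, Fin.sum_univ_two, ha, hb]
  inv_mem' {a} ha := by
    simp only [Set.mem_ofPred_eq] at ha ⊢
    simp [Matrix.SpecialLinearGroup.coe_inv, Matrix.adjugate_fin_two, ha]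

theorem mem_upperSL {g : SL(2, F)} : g ∈ upperSL ↔ (g : Matrix (Fin 2) (Fin 2) F) 1 0 = 0 := Iff.rfl

theorem diag2_coe (a : F) (ha : a ≠ 0) :
    (Matrix.SpecialLinearGroup.diag2 a ha : Matrix (Fin 2) (Fin 2) F) = !![a, 0; 0, a⁻¹] := by
  ext i j
  fin_cases i <;> fin_cases j <;> simp [Matrix.SpecialLinearGroup.diag2n_coe]

theorem weyl_coe : ((weyl : SL(2, F)) : Matrix (Fin 2) (Fin 2) F) = !![0, 1; -1, 0] := rfl

theorem weyl_inv_coe : ((weyl⁻¹ : SL(2, F)) : Matrix (Fin 2) (Fin 2) F) = !![0, -1; 1, 0] := by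
  rw [Matrix.SpecialLinearGroup.coe_inv, weyl_coe, Matrix.adjugate_fin_two]
  simp

theorem transvection_upper_coe (c : F) :
    (Matrix.SpecialLinearGroup.transvection (zero_ne_one : (0 : Fin 2) ≠ 1) c : Matrix (Fin 2) (Fin 2) F) =
      !![1, c; 0, 1] := uSL_coe c

theorem transvection_lower_coe (c : F) :
    (Matrix.SpecialLinearGroup.transvection (one_ne_zero : (1 : Fin 2) ≠ 0) c : Matrix (Fin 2) (Fin 2) F) =
      !![1, 0; c, 1] := by
  change (1 + Matrix.single 1 0 c : Matrix (Fin 2) (Fin 2) F) = _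
  ext i j; fin_cases i <;> fin_cases j <;> simp

theorem center_scalar {z : SL(2, F)} (hz : z ∈ Subgroup.center SL(2, F)) :
    ∃ r : F, r ^ 2 = 1 ∧ (z : Matrix (Fin 2) (Fin 2) F) = !![r, 0; 0, r] := by
  obtain ⟨r, hr, he⟩ := Matrix.SpecialLinearGroup.mem_center_iff.1 hz
  refine ⟨r, by simpa using hr, ?_⟩
  rw [← he]
  ext i j
  fin_cases i <;> fin_cases j <;> simp

theorem center_le_upper : Subgroup.center SL(2, F) ≤ upperSL := fun z hz => by
  obtain ⟨r, -, he⟩ := center_scalar hz
  rw [mem_upperSL, he]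
  simp

theorem upper_normalizes : upperSL ≤ Subgroup.normalizer ((unipSL F : Subgroup SL(2, F)) : Set SL(2, F)) := by
  refine Subgroup.le_normalizer_iff.2 ?_
  rintro g hg _ ⟨c, rfl⟩
  obtain ⟨c, rfl⟩ := Multiplicative.ofAdd.surjective c
  set d := (g : Matrix (Fin 2) (Fin 2) F) 0 0
  refine ⟨Multiplicative.ofAdd (d * d * c), ?_⟩
  rw [eq_mul_inv_iff_mul_eq]
  have hdet := g.2
  rw [Matrix.det_fin_two, mem_upperSL.1 hg, mul_zero, sub_zero] at hdet
  apply sl_ext
  rw [Matrix.SpecialLinearGroup.coe_mul, Matrix.SpecialLinearGroup.coe_mul, uSL_coe, uSL_coe]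
  ext i j
  fin_cases i <;> fin_cases j <;>
    simp [Matrix.mul_apply, Fin.sum_univ_two, mem_upperSL.1 hg, d]
  linear_combination (d * c) * hdet

variable [Fintype F] {p : ℕ} [Fact p.Prime] [CharP F p]

theorem exists_torus_elt (hq : 4 ≤ Fintype.card F) : ∃ a : F, a ≠ 0 ∧ a ^ 2 ≠ 1 := by
  classical
  by_contra h
  push Not at h
  have hsub : (Finset.univ : Finset F) ⊆ {0, 1, -1} := by
    intro a _
    by_cases ha : a = 0
    · simp [ha]
    · rcases sq_eq_one_iff.1 (h a ha) with h1 | h1 <;> simp [h1]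
  have h3 : ({0, 1, -1} : Finset F).card ≤ 3 := Finset.card_le_three
  have := Finset.card_le_card hsub
  rw [Finset.card_univ] at this
  omega

theorem dvd_card_SL : p ∣ Nat.card SL(2, F) := by
  refine dvd_trans ?_ (Subgroup.card_subgroup_dvd_card (unipSL F))
  rw [card_unipSL, Nat.card_eq_fintype_card]
  obtain ⟨n, hn, e⟩ := FiniteField.card F p
  rw [e]
  exact dvd_pow_self p n.ne_zero

theorem center_pow_SL (hp : p ≠ 2) : ∀ z ∈ Subgroup.center SL(2, F), z ^ p = 1 → z = 1 := by
  intro z hz h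
  obtain ⟨r, hr, he⟩ := center_scalar hz
  have hd : (z : Matrix (Fin 2) (Fin 2) F) = Matrix.diagonal fun _ => r := by
    rw [he]; ext i j; fin_cases i <;> fin_cases j <;> simp
  have h2 := congrArg (fun M : SL(2, F) => (M : Matrix (Fin 2) (Fin 2) F) 0 0) h
  simp [hd, Matrix.diagonal_pow] at h2
  have : r = 1 := frobenius_inj F p (by simpa [frobenius_def] using h2)
  apply Subtype.ext
  rw [hd, this]
  simp

/-- `PSL₂(q)` is rigid, `q` a power of an odd prime, `q ≠ 3`. -/
theorem rigid_PSL2 (hp : p ≠ 2) (hq : 4 ≤ Fintype.card F) :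
    Rigid p (Matrix.ProjectiveSpecialLinearGroup (Fin 2) F) := by
  obtain ⟨a, ha, ha2⟩ := exists_torus_elt hq
  set Z := Subgroup.center SL(2, F)
  set π := QuotientGroup.mk' Z with hπ
  have hπs : Function.Surjective π := QuotientGroup.mk'_surjective Z
  set d := Matrix.SpecialLinearGroup.diag2 a ha with hd
  have h2 : (2 : F) ≠ 0 := Ring.two_ne_zero (by rwa [ringChar.eq F p])
  have hmem : ∀ g : SL(2, F), π g ∈ (upperSL (F := F)).map π ↔ g ∈ upperSL := by
    intro g
    refine ⟨fun h => ?_, fun h => ⟨g, h, rfl⟩⟩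
    have : g ∈ (upperSL.map π).comap π := h
    rwa [Subgroup.comap_map_eq, QuotientGroup.ker_mk', sup_eq_left.2 center_le_upper] at this
  refine rigid_of (X := SL(2, F) ⧸ Z) ?_ ((unipSLSylow (F := F) p).mapSurjective hπs) (upperSL.map π) ?_
    (π d) (π weyl) ?_ ?_ ?_ ?_ ?_
  · have h1 := Subgroup.card_eq_card_quotient_mul_card_subgroup Z
    refine (((Fact.out : p.Prime).dvd_mul).1 (h1 ▸ dvd_card_SL (F := F))).resolve_right fun h => ?_
    obtain ⟨z, hz⟩ := exists_prime_orderOf_dvd_card' (G := Z) p h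
    have h3 := center_pow_SL (p := p) hp z z.2 ((by simpa using congrArg Subtype.val (hz ▸ pow_orderOf_eq_one z : z ^ p = 1)))
    rw [show z = 1 from Subtype.ext h3, orderOf_one] at hz
    exact (Fact.out : p.Prime).ne_one hz.symm
  · exact (Subgroup.map_mono upper_normalizes).trans (Subgroup.le_normalizer_map _)
  · exact ⟨d, by simp [mem_upperSL, hd, diag2_coe], rfl⟩
  · rw [← map_inv, ← map_mul, ← map_mul, hmem, mem_upperSL, Matrix.SpecialLinearGroup.coe_mul,
      Matrix.SpecialLinearGroup.coe_mul, hd, diag2_coe, weyl_coe, weyl_inv_coe]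
    simp [Matrix.mul_apply, Fin.sum_univ_two]
  · rw [hmem, mem_upperSL]
    simp [weyl]
  · apply Subgroup.comap_injective hπs
    rw [Subgroup.comap_top]
    have hn : weyl ∈ (upperSL.map π ⊔ Subgroup.zpowers (π weyl)).comap π :=
      Subgroup.mem_sup_right (Subgroup.mem_zpowers _)
    have hu : ∀ c : F, Matrix.SpecialLinearGroup.transvection (zero_ne_one : (0 : Fin 2) ≠ 1) c ∈
        (upperSL.map π ⊔ Subgroup.zpowers (π weyl)).comap π := fun c =>
      Subgroup.mem_sup_left ⟨_, by rw [SetLike.mem_coe, mem_upperSL, transvection_upper_coe]; simp, rfl⟩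
    refine sl2_transvections_generate _ hu fun c => ?_
    have e : Matrix.SpecialLinearGroup.transvection (one_ne_zero : (1 : Fin 2) ≠ 0) c =
        weyl * Matrix.SpecialLinearGroup.transvection (zero_ne_one : (0 : Fin 2) ≠ 1) (-c) * weyl⁻¹ := by
      apply sl_ext
      rw [Matrix.SpecialLinearGroup.coe_mul, Matrix.SpecialLinearGroup.coe_mul, transvection_upper_coe,
        weyl_coe, weyl_inv_coe]
      rw [transvection_lower_coe]
      ext i j
      fin_cases i <;> fin_cases j <;>
        simp [Matrix.mul_apply, Fin.sum_univ_two]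
    rw [e]
    exact mul_mem (mul_mem hn (hu _)) (inv_mem hn)
  · intro c hc
    obtain ⟨g, rfl⟩ := hπs c
    have hz : (d * g)⁻¹ * (g * d) ∈ Z := QuotientGroup.eq.1 (hc.eq.symm)
    obtain ⟨r, hr, he⟩ := center_scalar hz
    have hgd : g * d = d * g * ((d * g)⁻¹ * (g * d)) := by group
    generalize (d * g)⁻¹ * (g * d) = w at hgd he
    have hmat := congrArg (fun M : SL(2, F) => (M : Matrix (Fin 2) (Fin 2) F)) hgd
    simp only [Matrix.SpecialLinearGroup.coe_mul, he, hd, diag2_coe] at hmat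
    rw [Matrix.eta_fin_two (g : Matrix (Fin 2) (Fin 2) F), Matrix.mul_fin_two, Matrix.mul_fin_two,
      Matrix.mul_fin_two] at hmat
    have e00 := congrFun (congrFun hmat 0) 0
    have e01 := congrFun (congrFun hmat 0) 1
    have e10 := congrFun (congrFun hmat 1) 0
    simp at e00 e01 e10
    field_simp at e01 e10
    rcases sq_eq_one_iff.1 hr with h1 | h1 <;> subst h1
    · have hne : a ^ 2 - 1 ≠ 0 := sub_ne_zero.2 ha2
      have g10 : (g : Matrix (Fin 2) (Fin 2) F) 1 0 = 0 :=
        (mul_eq_zero.1 (show (a ^ 2 - 1) * (g : Matrix (Fin 2) (Fin 2) F) 1 0 = 0 by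
          linear_combination e10)).resolve_left hne
      have g01 : (g : Matrix (Fin 2) (Fin 2) F) 0 1 = 0 :=
        (mul_eq_zero.1 (show (a ^ 2 - 1) * (g : Matrix (Fin 2) (Fin 2) F) 0 1 = 0 by
          linear_combination -e01)).resolve_left hne
      refine Or.inl ⟨⟨g, g10, rfl⟩, fun ⟨j, hj⟩ => ?_⟩
      rw [← map_pow] at hj
      obtain ⟨s, -, hs⟩ := center_scalar ((QuotientGroup.eq_one_iff _).1 hj)
      have hdiag : (g : Matrix (Fin 2) (Fin 2) F) =
          Matrix.diagonal fun i => (g : Matrix (Fin 2) (Fin 2) F) i i := by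
        ext i j
        fin_cases i <;> fin_cases j <;> simp [g10, g01]
      rw [Matrix.SpecialLinearGroup.coe_pow, hdiag, Matrix.diagonal_pow] at hs
      have s0 := congrFun (congrFun hs 0) 0
      have s1 := congrFun (congrFun hs 1) 1
      simp at s0 s1
      have hgg : (g : Matrix (Fin 2) (Fin 2) F) 0 0 = (g : Matrix (Fin 2) (Fin 2) F) 1 1 :=
        iterateFrobenius_inj F p j (by rw [iterateFrobenius_def, iterateFrobenius_def, s0, s1])
      refine (QuotientGroup.eq_one_iff _).2 (Matrix.SpecialLinearGroup.mem_center_iff.2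
        ⟨(g : Matrix (Fin 2) (Fin 2) F) 0 0, ?_, ?_⟩)
      · have hdet := g.2
        rw [Matrix.det_fin_two, g10, mul_zero, sub_zero, ← hgg] at hdet
        simpa [pow_two] using hdet
      · ext i j
        fin_cases i <;> fin_cases j <;> simp [g10, g01, hgg]
    · have g00 : (g : Matrix (Fin 2) (Fin 2) F) 0 0 = 0 :=
        (mul_eq_zero.1 (show (2 * a) * (g : Matrix (Fin 2) (Fin 2) F) 0 0 = 0 by
          linear_combination e00)).resolve_left (mul_ne_zero h2 ha)
      refine Or.inr ?_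
      rw [← map_mul, hmem, mem_upperSL]
      simp [weyl, Matrix.mul_apply, Fin.sum_univ_two, g00]

/-- `SL₂(q)` is rigid, `q` a power of an odd prime, `q ≠ 3`. -/
theorem rigid_SL2 (hp : p ≠ 2) (hq : 4 ≤ Fintype.card F) : Rigid p SL(2, F) := by
  refine (rigid_PSL2 (F := F) (p := p) hp hq).of_quotient_center ?_ (center_pow_SL hp)
  obtain ⟨a, ha, ha2⟩ := exists_torus_elt hq
  refine sl_subgroup_eq_top _ fun i j hij c => ?_
  rw [commutator_eq_closure]
  exact Subgroup.subset_closure (transvection_mem_commutatorSet_two ha ha2 hij c)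

end CfsgLib.LocalEven.RankOneRigid
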