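import Cfsg.Agent.Lib.LocalEven.RankOneRigid.Core
import Cfsg.Agent.Lib.KnownC.AutPSU.Main

/-!
# Rigidity of `SU₃` and `PSU₃`
-/

set_option autoImplicit false
set_option linter.unusedSectionVars false

open Module MulAction CfsgLib.Classical CfsgLib.KnownC.AutPSU

namespace CfsgLib.LocalEven.RankOneRigid

section Abstract

variable {F : Type*} [Field F] {V : Type*} [AddCommGroup V] [Module F V] {σ : F →+* F}
  {B : V →ₛₗ[σ] V →ₗ[F] F} [hB : UCtx B] {p : ℕ} [Fact p.Prime] [CharP F p]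

include hB

/-- The three dimensional frame. -/
theorem exists_frame_three (h3 : finrank F V = 3) : Nonempty (UFrame B 1) := by
  obtain ⟨r, hr0, hr⟩ := exists_iso (B := B)
  obtain ⟨m, fr, -⟩ := exists_frame hr0 hr
  have hm : m = 1 := by have := fr.dim; omega
  subst hm
  exact ⟨fr⟩

variable (fr : UFrame B 1)

theorem expand3 (x : V) : x = B fr.s x • fr.r + B fr.r x • fr.s + B (fr.e 0) x • fr.e 0 := by
  simpa using fr.expand x

theorem pow_eq_one_frob {a : F} {i : ℕ} (h : a ^ p ^ i = 1) : a = 1 :=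
  iterateFrobenius_inj F p i (by rw [iterateFrobenius_def, iterateFrobenius_def, h, one_pow])

/-- A `p`-element of a point stabiliser lies in the radical. -/
theorem mem_rad_of_pow {x : PG B} (hx : x • fr.P = fr.P) {i : ℕ} (hp : x ^ p ^ i = 1) :
    x ∈ radGrp fr.P := by
  have hp' : x ^ p ^ (i + 1) = 1 := by rw [pow_succ, pow_mul, hp, one_pow]
  obtain ⟨g, rfl, hg⟩ := exists_lift_pow (B := B) (p := p) (Nat.succ_ne_zero i) hp'
  rw [UFrame.P, mk_smul_isoPt] at hx
  obtain ⟨a, ha⟩ := (Projectivization.mk_eq_mk_iff' _ _ _ _ _).1 (congrArg Subtype.val hx)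
  have hpow : ∀ k : ℕ, (g ^ k).1.1 fr.r = a ^ k • fr.r := by
    intro k
    induction k with
    | zero => simp
    | succ k ih =>
      rw [pow_succ']
      show g.1.1 ((g ^ k).1.1 fr.r) = _
      rw [ih, map_smul, ← ha, smul_smul, pow_succ]
  have ha1 : a = 1 := by
    refine pow_eq_one_frob (B := B) (p := p) (i := i + 1) ?_
    have h1 := hpow (p ^ (i + 1))
    rw [hg] at h1
    exact smul_left_injective F fr.r_ne (by simpa using h1.symm)
  have hgr : g.1.1 fr.r = fr.r := by rw [← ha, ha1, one_smul]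
  have hge : B fr.r (g.1.1 (fr.e 0)) = 0 := by
    conv_lhs => rw [← hgr]
    rw [isomGroup_apply, fr.re]
  set l := B (fr.e 0) (g.1.1 (fr.e 0))
  set t := B fr.s (g.1.1 (fr.e 0))
  have he : g.1.1 (fr.e 0) = t • fr.r + l • fr.e 0 := by
    conv_lhs => rw [expand3 fr (g.1.1 (fr.e 0))]
    rw [hge, zero_smul, add_zero]
  have hpe : ∀ k : ℕ, ∃ u : F, (g ^ k).1.1 (fr.e 0) = u • fr.r + l ^ k • fr.e 0 := by
    intro k
    induction k with
    | zero => exact ⟨0, by simp⟩
    | succ k ih =>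
      obtain ⟨u, hu⟩ := ih
      refine ⟨u + l ^ k * t, ?_⟩
      rw [pow_succ']
      show g.1.1 ((g ^ k).1.1 (fr.e 0)) = _
      rw [hu, map_add, map_smul, map_smul, hgr, he, pow_succ]
      module
  have hl : l = 1 := by
    refine pow_eq_one_frob (B := B) (p := p) (i := i + 1) ?_
    obtain ⟨u, hu⟩ := hpe (p ^ (i + 1))
    rw [hg] at hu
    have h1 := congrArg (B (fr.e 0)) hu
    simpa [fr.er, fr.ee] using h1.symm
  have hcase : ∀ z, B fr.r z = 0 → ∃ u : F, g.1.1 z - z = u • fr.r := by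
    intro z hz
    refine ⟨B (fr.e 0) z * t, ?_⟩
    have h1 : z = B fr.s z • fr.r + B (fr.e 0) z • fr.e 0 := by
      conv_lhs => rw [expand3 fr z]
      rw [hz, zero_smul, add_zero]
    conv_lhs => rw [h1]
    rw [map_add, map_smul, map_smul, hgr, he, hl]
    module
  obtain ⟨z, c, hc, rfl⟩ := eq_uzE_of_unipotent fr.r_ne fr.rr hgr hcase
  exact (mem_radGrp fr.r_ne fr.rr).2 ⟨z, c, hc, rfl⟩

/-- A point with the radical of `P` is `P`. -/
theorem eq_P_of_rad {Q : IsoPts B} (h : radGrp fr.P ≤ stabilizer (PG B) Q) : Q = fr.P := by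
  have h0 : B fr.P.1.rep Q.1.rep = 0 :=
    exists_nonorth_fix fr.P Q fun x hx => h (rootGrp_le_radGrp _ hx)
  obtain ⟨v, hv, hv0, rfl⟩ := isoPt_surjective Q
  rw [orth_isoPt] at h0
  set t := B fr.s v
  set w := B (fr.e 0) v
  have hvexp : v = t • fr.r + w • fr.e 0 := by
    conv_lhs => rw [expand3 fr v]
    rw [h0, zero_smul, add_zero]
  have hw : w = 0 := by
    have h1 : B v v = 0 := hv0
    rw [hvexp] at h1
    simp [fr.rr, fr.er, fr.re, fr.ee] at h1
    exact h1
  refine Subtype.ext ((Projectivization.mk_eq_mk_iff' _ _ _ _ _).2 ⟨t, ?_⟩)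
  rw [hvexp, hw, zero_smul, add_zero]

/-- A radical element fixing the second point is trivial. -/
theorem rad_fix_S {x : PG B} (hx : x ∈ radGrp fr.P) (hS : x • fr.S = fr.S) : x = 1 := by
  obtain ⟨z, c, hz, hc, rfl⟩ := fr.rad_normal_form hx
  rw [uzP, UFrame.S, mk_smul_isoPt] at hS
  obtain ⟨b, hb⟩ := (Projectivization.mk_eq_mk_iff' _ _ _ _ _).1 (congrArg Subtype.val hS)
  rw [uzE_apply hc, fr.rs, one_smul, mul_one, form_refl hz.2, sub_zero] at hb
  have hb1 : b = 1 := by
    have := congrArg (B fr.r) hb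
    simpa [fr.rs, fr.rr, hz.1] using this
  have hc0 : c = 0 := by
    have := congrArg (B fr.s) hb
    simpa [fr.ss, fr.sr, hz.2] using this.symm
  have hz0 : z = 0 := by
    rw [hb1, one_smul, hc0, zero_smul, add_zero, left_eq_add] at hb
    exact hb
  rw [uzP, hz0, hc0, uzE_zero fr.rr, QuotientGroup.mk_one]

theorem center_scalar_pair {z : sIsom B} (hz : z ∈ Subgroup.center (sIsom B)) :
    ∃ l : F, l * σ l = 1 ∧ z.1.1 fr.r = l • fr.r ∧ z.1.1 fr.s = l • fr.s := by
  obtain ⟨l, hl0, hl⟩ := center_smul hz fr.r_ne fr.rr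
  obtain ⟨k, -, hk⟩ := center_smul hz fr.s_ne fr.ss
  obtain ⟨c, hc0, hc⟩ := hB.herm.conj.exists_trace_zero
  have h := congrArg (fun g : sIsom B => g.1.1 fr.s) (Subgroup.mem_center_iff.1 hz (uzE B fr.r 0 c))
  change (uzE B fr.r 0 c).1.1 (z.1.1 fr.s) = z.1.1 ((uzE B fr.r 0 c).1.1 fr.s) at h
  rw [hk, uzE_apply (radCond_tv fr.rr hc), uzE_apply (radCond_tv fr.rr hc)] at h
  simp only [map_smul, map_add, fr.rs, smul_eq_mul, map_zero, LinearMap.zero_apply, sub_zero,
    smul_zero, add_zero, hk, hl, mul_one, smul_smul, add_right_inj] at h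
  have h' := smul_left_injective F fr.r_ne h
  have hkl : k = l := mul_left_cancel₀ hc0 (by linear_combination h')
  have h1 := isomGroup_apply z.1 fr.r fr.s
  rw [hl, hk, hkl] at h1
  simp [fr.rs] at h1
  exact ⟨l, by linear_combination h1, hl, by rw [hk, hkl]⟩

/-- The torus element used for rigidity. -/
theorem generator_conditions {q : ℕ} (hq : Nat.card F = q ^ 2) (hσ : ∀ x, σ x = x ^ q) (h4 : 4 ≤ q) :
    ∃ a : F, a ≠ 0 ∧ ∀ l : F, l * σ l = 1 → a * σ a ≠ l ∧ a ^ 2 ≠ l * σ a := by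
  haveI := hB.fin
  classical
  haveI := Fintype.ofFinite F
  obtain ⟨g, hg⟩ := IsCyclic.exists_generator (α := Fˣ)
  have hord : orderOf g = q ^ 2 - 1 := by
    rw [orderOf_eq_card_of_forall_mem_zpowers hg, Nat.card_units, hq]
  have hkey : ∀ k : ℕ, (g : F) ^ k = 1 → q ^ 2 - 1 ∣ k := by
    intro k hk
    rw [← hord]
    exact orderOf_dvd_of_pow_eq_one (Units.ext (by simpa using hk))
  have hsq : q ^ 2 - 1 = (q - 1) * (q + 1) := by
    obtain ⟨d, rfl⟩ := Nat.exists_eq_add_of_le (show 1 ≤ q by omega)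
    simp; ring_nf; omega
  have hdvd : ∀ k : ℕ, q ^ 2 - 1 ∣ k * (q + 1) → q - 1 ∣ k := fun k hk =>
    Nat.dvd_of_mul_dvd_mul_right (show 0 < q + 1 by omega) (hsq ▸ hk)
  refine ⟨g, g.ne_zero, fun l hl => ?_⟩
  have hl' : l ^ (q + 1) = 1 := by rw [pow_succ']; rw [hσ] at hl; exact hl
  constructor
  · intro h
    have h1 : (g : F) ^ ((q + 1) * (q + 1)) = 1 := by
      rw [pow_mul, pow_succ' (g : F) q, ← hσ, h, hl']
    have h2 := Nat.dvd_sub (hdvd _ (hkey _ h1)) (dvd_refl (q - 1))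
    rw [show q + 1 - (q - 1) = 2 by omega] at h2
    have := Nat.le_of_dvd (by norm_num) h2
    omega
  · intro h
    have h1 : (g : F) ^ ((q - 2) * (q + 1)) = 1 := by
      have h2 : ((g : F) ^ 2) ^ (q + 1) = (g : F) ^ (q * (q + 1)) := by
        rw [h, mul_pow, hl', one_mul, hσ, ← pow_mul]
      have h3 : (g : F) ^ (q * (q + 1)) = (g : F) ^ ((q - 2) * (q + 1)) * ((g : F) ^ 2) ^ (q + 1) := by
        rw [← pow_mul, ← pow_add]
        congr 1
        rw [← add_mul]
        congr 1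
        omega
      rw [← h2] at h3
      exact (mul_eq_right₀ (pow_ne_zero _ (pow_ne_zero _ g.ne_zero))).1 h3.symm
    have := Nat.le_of_dvd (by omega) (hdvd _ (hkey _ h1))
    omega

/-- The projective unitary group in dimension three is rigid. -/
theorem rigid_PG (h3 : finrank F V = 3) {q : ℕ} (hq : Nat.card F = q ^ 2) (hσ : ∀ x, σ x = x ^ q)
    (h4 : 4 ≤ q) : Rigid p (PG B) := by
  haveI := hB.fin; haveI := hB.findim
  haveI : Finite (sIsom B) := finite_sIsom (B := B)
  obtain ⟨fr⟩ := exists_frame_three (B := B) h3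
  obtain ⟨U, hU⟩ := IsPGroup.exists_le_sylow (p := p) (G := PG B) (P := radGrp fr.P)
    (fun y => ⟨2, Subtype.ext (by simpa using radGrp_pow_char (p := p) y.2)⟩)
  have hUR : (U : Subgroup (PG B)) = radGrp fr.P := by
    by_contra hne
    haveI := U.2.isNilpotent
    have hlt := Group.normalizerCondition_of_isNilpotent ((radGrp fr.P).subgroupOf (U : Subgroup (PG B)))
      (lt_top_iff_ne_top.mpr fun h => hne (le_antisymm (Subgroup.subgroupOf_eq_top.mp h) hU))
    obtain ⟨⟨u, huU⟩, huN, huR⟩ := SetLike.exists_of_lt hlt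
    refine huR (Subgroup.mem_subgroupOf.mpr ?_)
    obtain ⟨i, hi⟩ := U.2 ⟨u, huU⟩
    refine mem_rad_of_pow (p := p) fr (eq_P_of_rad fr ?_) (congrArg Subtype.val hi)
    intro y hy
    have h1 : u⁻¹ * y * u ∈ radGrp fr.P :=
      (Subgroup.mem_normalizer_iff''.1 huN ⟨y, hU hy⟩).1 hy
    have h2 := mem_stabilizer_iff.1 (radGrp_le_stab fr.P h1)
    rw [mul_smul, mul_smul] at h2
    exact mem_stabilizer_iff.2 (by
      have := congrArg (u • ·) h2
      simpa using this)
  have hne : fr.S ≠ fr.P := by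
    intro he
    have h0 : B fr.P.1.rep fr.S.1.rep = 0 := he ▸ fr.P.2
    rw [orth_isoPt, fr.rs] at h0
    exact one_ne_zero h0
  obtain ⟨n, hn⟩ := exists_smul_eq (PG B) fr.S fr.P
  obtain ⟨a, ha0, hcond⟩ := generator_conditions (B := B) hq hσ h4
  obtain ⟨h, htor, hhe, -⟩ := fr.exists_scale_one (i := 0) ha0
  have hnB : n ∉ stabilizer (PG B) fr.P := fun hnP =>
    hne ((MulAction.injective n) (hn.trans (mem_stabilizer_iff.1 hnP).symm))
  refine rigid_of (X := PG B) ?_ U (stabilizer (PG B) fr.P) ?_ (QuotientGroup.mk h) n htor.stab_P ?_ hnB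
    ((isCoatom_stab fr.P).2 _ (lt_of_le_of_ne le_sup_left fun e =>
      hnB (e ▸ Subgroup.mem_sup_right (Subgroup.mem_zpowers n)))) ?_
  · obtain ⟨y, hy, hy1⟩ := exists_root_ne_one fr.P
    rw [← orderOf_eq_prime (rootGrp_pow_char (p := p) hy) hy1]
    exact orderOf_dvd_natCard y
  · rw [hUR]
    refine Subgroup.le_normalizer_iff.2 fun x hx y hy => ?_
    have := conj_rad_mem x fr.P hy
    rwa [mem_stabilizer_iff.1 hx] at this
  · rw [mem_stabilizer_iff, mul_smul, mul_smul, show n⁻¹ • fr.P = fr.S by rw [← hn, inv_smul_smul],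
      mem_stabilizer_iff.1 htor.stab_S, hn]
  · intro c hc
    obtain ⟨g, rfl⟩ := QuotientGroup.mk_surjective c
    obtain ⟨l, hl, hzr, hzs⟩ := center_scalar_pair fr
      (show (h * g)⁻¹ * (g * h) ∈ Subgroup.center (sIsom B) from QuotientGroup.eq.1 hc.eq.symm)
    obtain ⟨hcond1, hcond2⟩ := hcond l hl
    have hl0 : l ≠ 0 := fun e => by simp [e] at hl
    have hgh : g * h = h * g * ((h * g)⁻¹ * (g * h)) := by group
    generalize (h * g)⁻¹ * (g * h) = z at hgh hzr hzs
    obtain ⟨ha, hhr, hhs⟩ := htor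
    have ha' := (map_ne_zero σ).2 ha
    -- coordinates under `h`
    have hfun : ∀ x : V, h.1.1 x =
        (B fr.s x * a) • fr.r + (B fr.r x * (σ a)⁻¹) • fr.s + (B (fr.e 0) x * (σ a / a)) • fr.e 0 := by
      intro x
      conv_lhs => rw [expand3 fr x]
      rw [map_add, map_add, map_smul, map_smul, map_smul, hhr, hhs, hhe, smul_smul, smul_smul, smul_smul]
    -- the images of the frame vectors are eigenvectors
    have hr : h.1.1 (g.1.1 fr.r) = (a / l) • g.1.1 fr.r := by
      have e := congrArg (fun k : sIsom B => k.1.1 fr.r) hgh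
      change g.1.1 (h.1.1 fr.r) = h.1.1 (g.1.1 (z.1.1 fr.r)) at e
      rw [hhr, hzr, map_smul, map_smul, map_smul] at e
      rw [div_eq_inv_mul, mul_smul, e, inv_smul_smul₀ hl0]
    have hs : h.1.1 (g.1.1 fr.s) = ((σ a)⁻¹ / l) • g.1.1 fr.s := by
      have e := congrArg (fun k : sIsom B => k.1.1 fr.s) hgh
      change g.1.1 (h.1.1 fr.s) = h.1.1 (g.1.1 (z.1.1 fr.s)) at e
      rw [hhs, hzs, map_smul, map_smul, map_smul] at e
      rw [div_eq_inv_mul, mul_smul, e, inv_smul_smul₀ hl0]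
    have hfixP : (QuotientGroup.mk g : PG B) • fr.P = fr.P := by
      have h1 := congrArg (B fr.r) hr
      have h2 := congrArg (B (fr.e 0)) hr
      rw [hfun] at h1 h2
      simp [fr.rr, fr.rs, fr.re, fr.er, fr.es, fr.ee] at h1 h2
      have hy : B fr.r (g.1.1 fr.r) = 0 := by
        by_contra hy
        field_simp at h1
        exact hcond1 (by linear_combination -h1)
      have hw : B (fr.e 0) (g.1.1 fr.r) = 0 := by
        by_contra hw
        field_simp at h2
        exact hcond2 (by linear_combination -h2)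
      have hgr : g.1.1 fr.r = B fr.s (g.1.1 fr.r) • fr.r := by
        conv_lhs => rw [expand3 fr (g.1.1 fr.r)]
        rw [hy, hw, zero_smul, zero_smul, add_zero, add_zero]
      rw [UFrame.P, mk_smul_isoPt]
      exact Subtype.ext ((Projectivization.mk_eq_mk_iff' _ _ _ _ _).2 ⟨_, hgr.symm⟩)
    have hfixS : (QuotientGroup.mk g : PG B) • fr.S = fr.S := by
      have h1 := congrArg (B fr.s) hs
      have h2 := congrArg (B (fr.e 0)) hs
      rw [hfun] at h1 h2
      simp [fr.ss, fr.sr, fr.se, fr.er, fr.es, fr.ee] at h1 h2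
      have hy : B fr.s (g.1.1 fr.s) = 0 := by
        by_contra hy
        field_simp at h1
        have h1' : a * σ a * l = 1 := h1
        refine (hcond (σ l) ?_).1 ?_
        · rw [sigma_invol (B := B)]; linear_combination hl
        · linear_combination (σ l) * h1' - (a * σ a) * hl
      have hw : B (fr.e 0) (g.1.1 fr.s) = 0 := by
        by_contra hw
        field_simp at h2
        have h2' : σ a ^ 2 * l = a := h2
        have h3 := congrArg σ h2'
        rw [map_mul, map_pow, sigma_invol (B := B)] at h3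
        exact hcond2 (by linear_combination l * h3 - (a ^ 2) * hl)
      have hgs : g.1.1 fr.s = B fr.r (g.1.1 fr.s) • fr.s := by
        conv_lhs => rw [expand3 fr (g.1.1 fr.s)]
        rw [hy, hw, zero_smul, zero_smul, zero_add, add_zero]
      rw [UFrame.S, mk_smul_isoPt]
      exact Subtype.ext ((Projectivization.mk_eq_mk_iff' _ _ _ _ _).2 ⟨_, hgs.symm⟩)
    exact Or.inl ⟨hfixP, fun ⟨j, hj⟩ => rad_fix_S fr (mem_rad_of_pow fr hfixP hj) hfixS⟩

end Abstract

section Matrix

variable {F : Type*} [Field F] [Fintype F] {p q : ℕ} [Fact p.Prime] [CharP F p]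

/-- `PSU₃(q)` and `SU₃(q)` are rigid for `q ≥ 4`. -/
theorem rigid_unitary (hF : Fintype.card F = q ^ 2) (h4 : 4 ≤ q) :
    Rigid p (Cfsg.PSU 3 F q) ∧ Rigid p ↥(Cfsg.SU 3 F q) := by
  haveI : Fact (Fintype.card F = q ^ 2) := ⟨hF⟩
  obtain ⟨θ, hθ, hc⟩ := exists_frob hF
  haveI := uctx hθ hc (le_refl 3) (by omega)
  set B := stdHerm θ 3
  haveI : Finite (sIsom B) := finite_sIsom
  have h3 : finrank F (Fin 3 → F) = 3 := Module.finrank_fin_fun F
  have hPG : Rigid p (PG B) := rigid_PG h3 (by rw [Nat.card_eq_fintype_card, hF]) hθ h4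
  refine ⟨hPG.of_equiv (pgEquiv (n := 3) (F := F) (q := q) hθ).symm, ?_⟩
  refine Rigid.of_equiv (suEquiv (n := 3) (F := F) (q := q) hθ).symm ?_
  have hu : UCtx B := inferInstance
  exact hPG.of_quotient_center (hu.herm.sIsom_perfect hu.nd (Or.inl ⟨hu.big h3, hu.three⟩))
    fun z hz h => center_pow_eq_one hz h

end Matrix

end CfsgLib.LocalEven.RankOneRigid
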